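import Cfsg.Agent.Lib.Helper4.Orb.C2.Trans

set_option autoImplicit false
set_option linter.style.haveILetI false
set_option linter.unusedVariables false
set_option linter.unusedSectionVars false

/-! The stabiliser of a minimal vector: census of the minimal vectors by inner product, and
transitivity on each class. -/

namespace Cfsg.Agent.Helper4.CO.C2

open Cfsg Cfsg.Agent.Helper4.CO

theorem anc0_eq : anc0 = v0L := by decide

theorem anc1_eq : anc1 = zeroL := by decide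

theorem anc2_eq : anc2 = zeroL := by decide

/-- an automorphism moving a given minimal vector to the base vector -/
theorem exists_base (v : leechLattice) (hv : sqNorm (v : GolayPt → ℤ) = 32) :
    ∃ h : Co0, ((h • v : leechLattice) : GolayPt → ℤ) = toV anc0 ∧
      ((h • (0 : leechLattice) : leechLattice) : GolayPt → ℤ) = toV anc1 ∧
      ((h • (0 : leechLattice) : leechLattice) : GolayPt → ℤ) = toV anc2 := by
  obtain ⟨h, hh⟩ := conj_base32 v hv
  refine ⟨h, ?_, ?_, ?_⟩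
  · rw [hh, anc0_eq]; rfl
  · rw [anc1_eq]; exact co0_smul_zero_coe h
  · rw [anc2_eq]; exact co0_smul_zero_coe h

theorem coe_zero_dot (x : leechLattice) :
    dotInt (((0 : leechLattice) : leechLattice) : GolayPt → ℤ) (x : GolayPt → ℤ) = 0 := by
  rw [AddSubgroup.coe_zero]; exact dotInt_zero_left _

theorem main_trans (c : ℤ)
    (htr : ∀ x ∈ statSet 32 anc0 anc1 anc2 (c, 0, 0), ∀ y ∈ statSet 32 anc0 anc1 anc2 (c, 0, 0),
      ∃ g : Co0, (∀ a ∈ anchors, FixL g a) ∧ g • x = y)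
    (v w w' : leechLattice) (hv : sqNorm (v : GolayPt → ℤ) = 32)
    (hw : sqNorm (w : GolayPt → ℤ) = 32) (hw' : sqNorm (w' : GolayPt → ℤ) = 32)
    (hd : dotInt (v : GolayPt → ℤ) (w : GolayPt → ℤ) = c)
    (hd' : dotInt (v : GolayPt → ℤ) (w' : GolayPt → ℤ) = c) :
    ∃ g : Co0, g • v = v ∧ g • w = w' := by
  obtain ⟨h, hc, hz1, hz2⟩ := exists_base v hv
  have hmem : ∀ x : leechLattice, sqNorm (x : GolayPt → ℤ) = 32 →
      dotInt (v : GolayPt → ℤ) (x : GolayPt → ℤ) = c → h • x ∈ statSet 32 anc0 anc1 anc2 (c, 0, 0) :=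
    fun x hx hdx => smul_mem_statSet h 32 anc0 anc1 anc2 (c, 0, 0) v 0 0 x hc hz1 hz2 hx hdx
      (coe_zero_dot x) (coe_zero_dot x)
  obtain ⟨g, hg, hgw⟩ := htr (h • w) (hmem w hw hd) (h • w') (hmem w' hw' hd')
  have hg0 : g • (h • v) = h • v := hg anc0 (by simp [anchors]) (h • v) hc
  refine ⟨h⁻¹ * g * h, ?_, ?_⟩
  · rw [mul_smul, mul_smul, hg0, inv_smul_smul]
  · rw [mul_smul, mul_smul, hgw, inv_smul_smul]

theorem main_count (c : ℤ) (n : ℕ) (hcn : fast32 anc0 anc1 anc2 (c, 0, 0) = n)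
    (v : GolayPt → ℤ) (hv : v ∈ leechLattice) (hvn : sqNorm v = 32) :
    {w : GolayPt → ℤ | w ∈ leechLattice ∧ sqNorm w = 32 ∧ dotInt v w = c}.ncard = n := by
  obtain ⟨h, hc, hz1, hz2⟩ := exists_base ⟨v, hv⟩ hvn
  have h1 := ncard_sub (fun w => sqNorm w = 32 ∧ dotInt v w = c)
  have h2 := ncard_transport h 32 anc0 anc1 anc2 (c, 0, 0) ⟨v, hv⟩ 0 0 hc hz1 hz2
  rw [ncard_statSet anc0 anc1 anc2 anc0_in.1 anc1_in.1 anc2_in.1, hcn] at h2
  rw [← h1, ← h2]
  congr 1
  ext x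
  constructor
  · rintro ⟨hn, hd⟩
    exact ⟨hn, hd, coe_zero_dot x, coe_zero_dot x⟩
  · rintro ⟨hn, hd, _, _⟩
    exact ⟨hn, hd⟩

end Cfsg.Agent.Helper4.CO.C2
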