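import Cfsg.Agent.Lib.Helper4.CoOrbit

set_option autoImplicit false
set_option linter.style.haveILetI false
set_option linter.unusedVariables false
set_option linter.unusedSectionVars false
set_option Elab.async false

/-! Generators of a stabiliser (generated data). -/

namespace Cfsg.Agent.Helper4.CO.C2

open Cfsg Cfsg.Agent.Helper4.CO

/-- anchor -/
def anc0 : List ℤ := [4, 0, 0, 0, 0, 4, 0, 0, 0, 0, 0, 0, 0, 0, 0, 0, 0, 0, 0, 0, 0, 0, 0, 0]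

theorem anc0_in : InLP anc0 := by decide +kernel

/-- anchor -/
def anc1 : List ℤ := [0, 0, 0, 0, 0, 0, 0, 0, 0, 0, 0, 0, 0, 0, 0, 0, 0, 0, 0, 0, 0, 0, 0, 0]

theorem anc1_in : InLP anc1 := by decide +kernel

/-- anchor -/
def anc2 : List ℤ := [0, 0, 0, 0, 0, 0, 0, 0, 0, 0, 0, 0, 0, 0, 0, 0, 0, 0, 0, 0, 0, 0, 0, 0]

theorem anc2_in : InLP anc2 := by decide +kernel

/-- the anchors -/
def anchors : List (List ℤ) := [anc0, anc1, anc2]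

/-- generator -/
def g0 : Gen := Gen.mono [0, 3, 7, 19, 11, 5, 2, 10, 15, 9, 16, 20, 6, 8, 13, 18, 21, 22, 17, 4, 23, 12, 14, 1] [1, 1, -1, 1, 1, 1, 1, -1, 1, -1, 1, -1, 1, 1, 1, -1, 1, -1, 1, 1, -1, 1, -1, 1]

set_option maxRecDepth 1000000 in
theorem g0_good : g0.Good := by decide +kernel

/-- generator -/
def g1 : Gen := Gen.mono [5, 15, 9, 20, 17, 0, 12, 3, 8, 16, 14, 19, 10, 4, 7, 21, 23, 18, 1, 22, 6, 11, 2, 13] [1, 1, -1, -1, -1, 1, -1, -1, -1, 1, 1, 1, 1, 1, 1, 1, 1, -1, -1, -1, 1, -1, -1, -1]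

set_option maxRecDepth 1000000 in
theorem g1_good : g1.Good := by decide +kernel

/-- generator -/
def g2 : Gen := Gen.mono [0, 21, 3, 17, 14, 5, 11, 4, 7, 18, 20, 6, 12, 19, 8, 2, 16, 15, 9, 22, 1, 10, 23, 13] [1, 1, -1, 1, -1, 1, -1, 1, 1, 1, -1, -1, -1, -1, 1, 1, -1, 1, 1, 1, -1, -1, -1, -1]

set_option maxRecDepth 1000000 in
theorem g2_good : g2.Good := by decide +kernel

/-- matrix -/
def m0 : List (List ℤ) :=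
  [[1, 0, 0, 0, 0, 1, 0, 0, 0, 0, 0, 0, 0, 0, 0, 0, 1, 0, 0, 0, 1, 0, 0, 0],
  [0, 0, 0, 0, 0, 0, -1, 0, 1, 0, -1, 0, 0, 0, 0, 1, 0, 0, 0, 0, 0, 0, 0, 0],
  [0, 0, 0, 0, 0, 0, -1, 0, -1, 0, 1, 0, 0, 0, 0, 1, 0, 0, 0, 0, 0, 0, 0, 0],
  [0, -1, 1, 0, 0, 0, 0, 1, 0, 0, 0, -1, 0, 0, 0, 0, 0, 0, 0, 0, 0, 0, 0, 0],
  [0, -1, -1, 0, 0, 0, 0, -1, 0, 0, 0, -1, 0, 0, 0, 0, 0, 0, 0, 0, 0, 0, 0, 0],
  [1, 0, 0, 0, 0, 1, 0, 0, 0, 0, 0, 0, 0, 0, 0, 0, -1, 0, 0, 0, -1, 0, 0, 0],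
  [0, 0, 0, -1, 0, 0, 0, 0, 0, 0, 0, 0, 0, 0, 0, 0, 0, -1, 1, 1, 0, 0, 0, 0],
  [1, 0, 0, 0, 0, -1, 0, 0, 0, 0, 0, 0, 0, 0, 0, 0, 1, 0, 0, 0, -1, 0, 0, 0],
  [0, 0, 0, 0, -1, 0, 0, 0, 0, -1, 0, 0, 0, 0, 1, 0, 0, 0, 0, 0, 0, 0, 0, 1],
  [0, 1, 1, 0, 0, 0, 0, -1, 0, 0, 0, -1, 0, 0, 0, 0, 0, 0, 0, 0, 0, 0, 0, 0],
  [0, 0, 0, 0, -1, 0, 0, 0, 0, 1, 0, 0, 0, 0, 1, 0, 0, 0, 0, 0, 0, 0, 0, -1],
  [-1, 0, 0, 0, 0, 1, 0, 0, 0, 0, 0, 0, 0, 0, 0, 0, 1, 0, 0, 0, -1, 0, 0, 0],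
  [0, 0, 0, 0, 1, 0, 0, 0, 0, -1, 0, 0, 0, 0, 1, 0, 0, 0, 0, 0, 0, 0, 0, -1],
  [0, 0, 0, 0, -1, 0, 0, 0, 0, -1, 0, 0, 0, 0, -1, 0, 0, 0, 0, 0, 0, 0, 0, -1],
  [0, 0, 0, 0, 0, 0, 0, 0, 0, 0, 0, 0, -1, -1, 0, 0, 0, 0, 0, 0, 0, 1, 1, 0],
  [0, 0, 0, -1, 0, 0, 0, 0, 0, 0, 0, 0, 0, 0, 0, 0, 0, 1, -1, 1, 0, 0, 0, 0],
  [0, 0, 0, 0, 0, 0, -1, 0, 1, 0, 1, 0, 0, 0, 0, -1, 0, 0, 0, 0, 0, 0, 0, 0],
  [0, -1, 1, 0, 0, 0, 0, -1, 0, 0, 0, 1, 0, 0, 0, 0, 0, 0, 0, 0, 0, 0, 0, 0],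
  [0, 0, 0, 0, 0, 0, 0, 0, 0, 0, 0, 0, 1, -1, 0, 0, 0, 0, 0, 0, 0, -1, 1, 0],
  [0, 0, 0, 0, 0, 0, 0, 0, 0, 0, 0, 0, -1, 1, 0, 0, 0, 0, 0, 0, 0, -1, 1, 0],
  [0, 0, 0, 0, 0, 0, 1, 0, 1, 0, 1, 0, 0, 0, 0, 1, 0, 0, 0, 0, 0, 0, 0, 0],
  [0, 0, 0, 1, 0, 0, 0, 0, 0, 0, 0, 0, 0, 0, 0, 0, 0, -1, -1, 1, 0, 0, 0, 0],
  [0, 0, 0, -1, 0, 0, 0, 0, 0, 0, 0, 0, 0, 0, 0, 0, 0, -1, -1, -1, 0, 0, 0, 0],
  [0, 0, 0, 0, 0, 0, 0, 0, 0, 0, 0, 0, -1, -1, 0, 0, 0, 0, 0, 0, 0, -1, -1, 0]]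

set_option maxRecDepth 1000000 in
theorem m0_good : GoodMat m0 := by decide +kernel

/-- generator -/
def g3 : Gen := Gen.word [m0]

theorem g3_good : g3.Good := by
  intro A hA
  simp only [List.mem_cons, List.not_mem_nil, or_false] at hA
  rcases hA with rfl
  · exact m0_good

/-- the generators -/
def gens : List Gen := [g0, g1, g2, g3]

set_option maxRecDepth 1000000 in
theorem gensOK : GensOK anchors gens := by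
  refine ⟨by decide, ?_⟩
  intro A hA
  simp only [gens, List.mem_cons, List.not_mem_nil, or_false] at hA
  rcases hA with rfl | rfl | rfl | rfl
  · exact ⟨g0_good, by decide, by decide +kernel⟩
  · exact ⟨g1_good, by decide, by decide +kernel⟩
  · exact ⟨g2_good, by decide, by decide +kernel⟩
  · exact ⟨g3_good, by decide, by decide +kernel⟩

end Cfsg.Agent.Helper4.CO.C2
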