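import Cfsg.Agent.Lib.Helper4.CoOrbitCount
import Cfsg.Agent.Lib.Helper4.Orb.C2.Cfg

set_option autoImplicit false
set_option linter.style.haveILetI false
set_option linter.unusedVariables false
set_option linter.unusedSectionVars false
set_option Elab.async false

/-! A count of vectors with prescribed inner products (kernel computation). -/

namespace Cfsg.Agent.Helper4.CO.C2

open Cfsg Cfsg.Agent.Helper4.CO

set_option maxRecDepth 1000000 in
theorem countA_p : part1 anc0 anc1 anc2 (-16, 0, 0) = 88 := by decide +kernel

set_option maxRecDepth 1000000 in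
theorem countA_b0 : partB anc0 anc1 anc2 (-16, 0, 0) 0 = 128 := by decide +kernel

set_option maxRecDepth 1000000 in
theorem countA_b1 : partB anc0 anc1 anc2 (-16, 0, 0) 1 = 128 := by decide +kernel

set_option maxRecDepth 1000000 in
theorem countA_b2 : partB anc0 anc1 anc2 (-16, 0, 0) 2 = 128 := by decide +kernel

set_option maxRecDepth 1000000 in
theorem countA_b3 : partB anc0 anc1 anc2 (-16, 0, 0) 3 = 128 := by decide +kernel

set_option maxRecDepth 1000000 in
theorem countA_b4 : partB anc0 anc1 anc2 (-16, 0, 0) 4 = 128 := by decide +kernel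

set_option maxRecDepth 1000000 in
theorem countA_b5 : partB anc0 anc1 anc2 (-16, 0, 0) 5 = 128 := by decide +kernel

set_option maxRecDepth 1000000 in
theorem countA_b6 : partB anc0 anc1 anc2 (-16, 0, 0) 6 = 128 := by decide +kernel

set_option maxRecDepth 1000000 in
theorem countA_b7 : partB anc0 anc1 anc2 (-16, 0, 0) 7 = 128 := by decide +kernel

set_option maxRecDepth 1000000 in
theorem countA_b8 : partB anc0 anc1 anc2 (-16, 0, 0) 8 = 1024 := by decide +kernel

set_option maxRecDepth 1000000 in
theorem countA_b9 : partB anc0 anc1 anc2 (-16, 0, 0) 9 = 512 := by decide +kernel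

set_option maxRecDepth 1000000 in
theorem countA_b10 : partB anc0 anc1 anc2 (-16, 0, 0) 10 = 512 := by decide +kernel

set_option maxRecDepth 1000000 in
theorem countA_b11 : partB anc0 anc1 anc2 (-16, 0, 0) 11 = 256 := by decide +kernel

set_option maxRecDepth 1000000 in
theorem countA_b12 : partB anc0 anc1 anc2 (-16, 0, 0) 12 = 512 := by decide +kernel

set_option maxRecDepth 1000000 in
theorem countA_b13 : partB anc0 anc1 anc2 (-16, 0, 0) 13 = 256 := by decide +kernel

set_option maxRecDepth 1000000 in
theorem countA_b14 : partB anc0 anc1 anc2 (-16, 0, 0) 14 = 256 := by decide +kernel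

set_option maxRecDepth 1000000 in
theorem countA_b15 : partB anc0 anc1 anc2 (-16, 0, 0) 15 = 160 := by decide +kernel

theorem countA : fast32 anc0 anc1 anc2 (-16, 0, 0) = 4600 := by
  rw [fast32_parts, countA_p, countA_b0, countA_b1, countA_b2, countA_b3, countA_b4, countA_b5, countA_b6, countA_b7, countA_b8, countA_b9, countA_b10, countA_b11, countA_b12, countA_b13, countA_b14, countA_b15]

end Cfsg.Agent.Helper4.CO.C2
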