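import Cfsg.Agent.Lib.Helper4.CoOrbitCount
import Cfsg.Agent.Lib.Helper4.Orb.C2.Cfg

set_option autoImplicit false
set_option linter.style.haveILetI false
set_option linter.unusedVariables false
set_option linter.unusedSectionVars false
set_option Elab.async false

/-! A count of vectors with prescribed inner products (kernel computation). -/

namespace Cfsg.Agent.Helper4.CO.C2

open Cfsg Cfsg.Agent.Helper4.CO

set_option maxRecDepth 1000000 in
theorem countB_p : part1 anc0 anc1 anc2 (-8, 0, 0) = 0 := by decide +kernel

set_option maxRecDepth 1000000 in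
theorem countB_b0 : partB anc0 anc1 anc2 (-8, 0, 0) 0 = 6144 := by decide +kernel

set_option maxRecDepth 1000000 in
theorem countB_b1 : partB anc0 anc1 anc2 (-8, 0, 0) 1 = 4608 := by decide +kernel

set_option maxRecDepth 1000000 in
theorem countB_b2 : partB anc0 anc1 anc2 (-8, 0, 0) 2 = 4608 := by decide +kernel

set_option maxRecDepth 1000000 in
theorem countB_b3 : partB anc0 anc1 anc2 (-8, 0, 0) 3 = 3584 := by decide +kernel

set_option maxRecDepth 1000000 in
theorem countB_b4 : partB anc0 anc1 anc2 (-8, 0, 0) 4 = 4608 := by decide +kernel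

set_option maxRecDepth 1000000 in
theorem countB_b5 : partB anc0 anc1 anc2 (-8, 0, 0) 5 = 3584 := by decide +kernel

set_option maxRecDepth 1000000 in
theorem countB_b6 : partB anc0 anc1 anc2 (-8, 0, 0) 6 = 3584 := by decide +kernel

set_option maxRecDepth 1000000 in
theorem countB_b7 : partB anc0 anc1 anc2 (-8, 0, 0) 7 = 3072 := by decide +kernel

set_option maxRecDepth 1000000 in
theorem countB_b8 : partB anc0 anc1 anc2 (-8, 0, 0) 8 = 3584 := by decide +kernel

set_option maxRecDepth 1000000 in
theorem countB_b9 : partB anc0 anc1 anc2 (-8, 0, 0) 9 = 2048 := by decide +kernel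

set_option maxRecDepth 1000000 in
theorem countB_b10 : partB anc0 anc1 anc2 (-8, 0, 0) 10 = 2048 := by decide +kernel

set_option maxRecDepth 1000000 in
theorem countB_b11 : partB anc0 anc1 anc2 (-8, 0, 0) 11 = 1024 := by decide +kernel

set_option maxRecDepth 1000000 in
theorem countB_b12 : partB anc0 anc1 anc2 (-8, 0, 0) 12 = 2048 := by decide +kernel

set_option maxRecDepth 1000000 in
theorem countB_b13 : partB anc0 anc1 anc2 (-8, 0, 0) 13 = 1024 := by decide +kernel

set_option maxRecDepth 1000000 in
theorem countB_b14 : partB anc0 anc1 anc2 (-8, 0, 0) 14 = 1024 := by decide +kernel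

set_option maxRecDepth 1000000 in
theorem countB_b15 : partB anc0 anc1 anc2 (-8, 0, 0) 15 = 512 := by decide +kernel

theorem countB : fast32 anc0 anc1 anc2 (-8, 0, 0) = 47104 := by
  rw [fast32_parts, countB_p, countB_b0, countB_b1, countB_b2, countB_b3, countB_b4, countB_b5, countB_b6, countB_b7, countB_b8, countB_b9, countB_b10, countB_b11, countB_b12, countB_b13, countB_b14, countB_b15]

end Cfsg.Agent.Helper4.CO.C2
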