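import Cfsg.Agent.Lib.Helper4.CoOrbitCount
import Cfsg.Agent.Lib.Helper4.Orb.C2.Cfg

set_option autoImplicit false
set_option linter.style.haveILetI false
set_option linter.unusedVariables false
set_option linter.unusedSectionVars false
set_option Elab.async false

/-! A count of vectors with prescribed inner products (kernel computation). -/

namespace Cfsg.Agent.Helper4.CO.C2

open Cfsg Cfsg.Agent.Helper4.CO

set_option maxRecDepth 1000000 in
theorem countC_p : part1 anc0 anc1 anc2 (0, 0, 0) = 926 := by decide +kernel

set_option maxRecDepth 1000000 in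
theorem countC_b0 : partB anc0 anc1 anc2 (0, 0, 0) 0 = 12800 := by decide +kernel

set_option maxRecDepth 1000000 in
theorem countC_b1 : partB anc0 anc1 anc2 (0, 0, 0) 1 = 9472 := by decide +kernel

set_option maxRecDepth 1000000 in
theorem countC_b2 : partB anc0 anc1 anc2 (0, 0, 0) 2 = 9472 := by decide +kernel

set_option maxRecDepth 1000000 in
theorem countC_b3 : partB anc0 anc1 anc2 (0, 0, 0) 3 = 6400 := by decide +kernel

set_option maxRecDepth 1000000 in
theorem countC_b4 : partB anc0 anc1 anc2 (0, 0, 0) 4 = 9472 := by decide +kernel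

set_option maxRecDepth 1000000 in
theorem countC_b5 : partB anc0 anc1 anc2 (0, 0, 0) 5 = 6400 := by decide +kernel

set_option maxRecDepth 1000000 in
theorem countC_b6 : partB anc0 anc1 anc2 (0, 0, 0) 6 = 6400 := by decide +kernel

set_option maxRecDepth 1000000 in
theorem countC_b7 : partB anc0 anc1 anc2 (0, 0, 0) 7 = 4352 := by decide +kernel

set_option maxRecDepth 1000000 in
theorem countC_b8 : partB anc0 anc1 anc2 (0, 0, 0) 8 = 4608 := by decide +kernel

set_option maxRecDepth 1000000 in
theorem countC_b9 : partB anc0 anc1 anc2 (0, 0, 0) 9 = 3584 := by decide +kernel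

set_option maxRecDepth 1000000 in
theorem countC_b10 : partB anc0 anc1 anc2 (0, 0, 0) 10 = 3584 := by decide +kernel

set_option maxRecDepth 1000000 in
theorem countC_b11 : partB anc0 anc1 anc2 (0, 0, 0) 11 = 3072 := by decide +kernel

set_option maxRecDepth 1000000 in
theorem countC_b12 : partB anc0 anc1 anc2 (0, 0, 0) 12 = 3584 := by decide +kernel

set_option maxRecDepth 1000000 in
theorem countC_b13 : partB anc0 anc1 anc2 (0, 0, 0) 13 = 3072 := by decide +kernel

set_option maxRecDepth 1000000 in
theorem countC_b14 : partB anc0 anc1 anc2 (0, 0, 0) 14 = 3072 := by decide +kernel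

set_option maxRecDepth 1000000 in
theorem countC_b15 : partB anc0 anc1 anc2 (0, 0, 0) 15 = 2880 := by decide +kernel

theorem countC : fast32 anc0 anc1 anc2 (0, 0, 0) = 93150 := by
  rw [fast32_parts, countC_p, countC_b0, countC_b1, countC_b2, countC_b3, countC_b4, countC_b5, countC_b6, countC_b7, countC_b8, countC_b9, countC_b10, countC_b11, countC_b12, countC_b13, countC_b14, countC_b15]

end Cfsg.Agent.Helper4.CO.C2
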