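import Cfsg.Agent.Lib.Helper4.Orb.C2.A
import Cfsg.Agent.Lib.Helper4.Orb.C2.CountA
import Cfsg.Agent.Lib.Helper4.Orb.C2.B
import Cfsg.Agent.Lib.Helper4.Orb.C2.CountB
import Cfsg.Agent.Lib.Helper4.Orb.C2.C
import Cfsg.Agent.Lib.Helper4.Orb.C2.CountC

set_option autoImplicit false
set_option linter.style.haveILetI false
set_option linter.unusedVariables false
set_option linter.unusedSectionVars false

/-! Transitivity of a stabiliser on sets of vectors with prescribed inner products. -/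

namespace Cfsg.Agent.Helper4.CO.C2

open Cfsg Cfsg.Agent.Helper4.CO

theorem ncardA : (statSet 32 anc0 anc1 anc2 (-16, 0, 0)).ncard = (chunksA.flatMap fun ch => ch.2).length := by
  rw [chunksA_len, ncard_statSet anc0 anc1 anc2 anc0_in.1 anc1_in.1 anc2_in.1, countA]

theorem transA : ∀ x ∈ statSet 32 anc0 anc1 anc2 (-16, 0, 0), ∀ y ∈ statSet 32 anc0 anc1 anc2 (-16, 0, 0),
    ∃ g : Co0, (∀ a ∈ anchors, FixL g a) ∧ g • x = y :=
  orbit_trans' anchors gens gensOK startA startA_in (by decide) _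
    (mem_statSet_mkL 32 anc0 anc1 anc2 (-16, 0, 0) anc0_in.1 anc1_in.1 anc2_in.1 startA startA_in
      (by decide) (by decide))
    (statSet_inv 32 anc0 anc1 anc2 (-16, 0, 0) anc0_in anc1_in anc2_in) chunksA chunksA_ok chunksA_nd
    ncardA (Set.finite_of_ncard_ne_zero (by rw [ncardA, chunksA_len]; norm_num))

theorem ncardB : (statSet 32 anc0 anc1 anc2 (-8, 0, 0)).ncard = (chunksB.flatMap fun ch => ch.2).length := by
  rw [chunksB_len, ncard_statSet anc0 anc1 anc2 anc0_in.1 anc1_in.1 anc2_in.1, countB]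

theorem transB : ∀ x ∈ statSet 32 anc0 anc1 anc2 (-8, 0, 0), ∀ y ∈ statSet 32 anc0 anc1 anc2 (-8, 0, 0),
    ∃ g : Co0, (∀ a ∈ anchors, FixL g a) ∧ g • x = y :=
  orbit_trans' anchors gens gensOK startB startB_in (by decide) _
    (mem_statSet_mkL 32 anc0 anc1 anc2 (-8, 0, 0) anc0_in.1 anc1_in.1 anc2_in.1 startB startB_in
      (by decide) (by decide))
    (statSet_inv 32 anc0 anc1 anc2 (-8, 0, 0) anc0_in anc1_in anc2_in) chunksB chunksB_ok chunksB_nd
    ncardB (Set.finite_of_ncard_ne_zero (by rw [ncardB, chunksB_len]; norm_num))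

theorem ncardC : (statSet 32 anc0 anc1 anc2 (0, 0, 0)).ncard = (chunksC.flatMap fun ch => ch.2).length := by
  rw [chunksC_len, ncard_statSet anc0 anc1 anc2 anc0_in.1 anc1_in.1 anc2_in.1, countC]

theorem transC : ∀ x ∈ statSet 32 anc0 anc1 anc2 (0, 0, 0), ∀ y ∈ statSet 32 anc0 anc1 anc2 (0, 0, 0),
    ∃ g : Co0, (∀ a ∈ anchors, FixL g a) ∧ g • x = y :=
  orbit_trans' anchors gens gensOK startC startC_in (by decide) _
    (mem_statSet_mkL 32 anc0 anc1 anc2 (0, 0, 0) anc0_in.1 anc1_in.1 anc2_in.1 startC startC_in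
      (by decide) (by decide))
    (statSet_inv 32 anc0 anc1 anc2 (0, 0, 0) anc0_in anc1_in anc2_in) chunksC chunksC_ok chunksC_nd
    ncardC (Set.finite_of_ncard_ne_zero (by rw [ncardC, chunksC_len]; norm_num))

end Cfsg.Agent.Helper4.CO.C2
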